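import Groth.Agent.S9407
import Groth.Agent.FppfSrc.Etale
import Mathlib.RingTheory.ZariskisMainTheorem
import Mathlib.RingTheory.Smooth.Fiber

/-! Smooth and quasi-finite implies etale. -/

set_option backward.isDefEq.respectTransparency false

universe u

open TensorProduct

namespace Groth.Agent.SmoothQFLib

/-- A finite smooth algebra over a field is formally unramified. -/
theorem formallyUnramified_of_finite_smooth (k B : Type u) [Field k] [CommRing B] [Algebra k B]
    [Module.Finite k B] [Algebra.Smooth k B] : Algebra.FormallyUnramified k B := by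
  let K := AlgebraicClosure k
  haveI : Algebra.Smooth K (K ⊗[k] B) := inferInstance
  haveI : IsReduced (K ⊗[k] B) := Groth.Agent.S9407.result K (K ⊗[k] B)
  haveI : IsArtinianRing (K ⊗[k] B) := .of_finite K _
  haveI : ∀ I : MaximalSpectrum (K ⊗[k] B), Algebra.FormallyEtale K ((K ⊗[k] B) ⧸ I.asIdeal) := fun I => by
    letI := Ideal.Quotient.field I.asIdeal
    exact Algebra.FormallyEtale.of_isSeparable K _
  haveI : Algebra.FormallyEtale K (K ⊗[k] B) :=
    .of_equiv ((IsArtinianRing.equivPi (K ⊗[k] B)).restrictScalars K).symm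
  exact Algebra.FormallyUnramified.of_formallyUnramified_tensorProduct_of_faithfullyFlat K

/-- A smooth quasi-finite algebra is etale. -/
theorem etale_of_smooth_quasiFinite (A B : Type u) [CommRing A] [CommRing B] [Algebra A B]
    [Algebra.Smooth A B] [Algebra.QuasiFinite A B] : Algebra.Etale A B := by
  haveI : Algebra.FormallyUnramified A B :=
    FppfSrc.formallyUnramified_of_fibre A B fun p _ => by
      haveI : Module.Finite p.ResidueField (p.Fiber B) := Algebra.QuasiFinite.finite_fiber p
      exact formallyUnramified_of_finite_smooth p.ResidueField (p.Fiber B)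
  exact Algebra.Etale.iff_formallyUnramified_and_smooth.mpr ⟨inferInstance, inferInstance⟩

/-- Smooth and quasi-finite at a prime implies etale at that prime. -/
theorem isEtaleAt_of_isSmoothAt_of_quasiFiniteAt (A B : Type u) [CommRing A] [CommRing B]
    [Algebra A B] [Algebra.FinitePresentation A B] (q : Ideal B) [q.IsPrime]
    [Algebra.QuasiFiniteAt A q] (h : Algebra.IsSmoothAt A q) : Algebra.IsEtaleAt A q := by
  obtain ⟨S', hS', r, hrq, hbij⟩ :=
    Algebra.QuasiFiniteAt.exists_fg_and_exists_notMem_and_awayMap_bijective (R := A) q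
  have : Module.Finite A S' := ⟨(Submodule.fg_top _).mpr hS'⟩
  have : Algebra.QuasiFinite A (Localization.Away r) := .trans _ S' _
  have : Algebra.QuasiFinite A (Localization.Away r.1) :=
    .of_surjective_algHom (Localization.awayMapₐ S'.val r) hbij.2
  obtain ⟨_, ⟨f, rfl⟩, hfq, hfsub⟩ := PrimeSpectrum.isTopologicalBasis_basic_opens.exists_subset_of_mem_open
    (show (⟨q, ‹_›⟩ : PrimeSpectrum B) ∈ Algebra.smoothLocus A B from h) Algebra.isOpen_smoothLocus
  let g := f * r.1
  have hgq : g ∉ q := ‹q.IsPrime›.mul_notMem hfq hrq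
  haveI : Algebra.Smooth A (Localization.Away g) :=
    Algebra.basicOpen_subset_smoothLocus_iff_smooth.mp
      (le_trans (PrimeSpectrum.basicOpen_mul_le_left f r.1) hfsub)
  have hu : IsUnit (algebraMap B (Localization.Away g) r.1) :=
    isUnit_of_dvd_unit (map_dvd _ (dvd_mul_left r.1 f))
      (IsLocalization.Away.algebraMap_isUnit (S := Localization.Away g) g)
  let ψ : Localization.Away r.1 →ₐ[B] Localization.Away g :=
    IsLocalization.liftAlgHom (M := Submonoid.powers r.1) (f := Algebra.ofId B (Localization.Away g))
      (fun y => by obtain ⟨_, n, rfl⟩ := y; rw [map_pow]; exact hu.pow n)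
  haveI : Algebra.QuasiFinite A (Localization.Away g) := by
    refine .of_forall_exists_mul_mem_range (ψ.restrictScalars A) fun x => ?_
    obtain ⟨b, ⟨_, n, rfl⟩, rfl⟩ := IsLocalization.exists_mk'_eq (Submonoid.powers g) x
    exact ⟨algebraMap _ _ (g ^ n),
      by simpa using (IsLocalization.Away.algebraMap_isUnit (S := Localization.Away g) g).pow n,
      algebraMap _ _ b, by
        simp
        exact (IsLocalization.mk'_spec (M := Submonoid.powers g) (Localization.Away g) b ⟨g ^ n, n, rfl⟩).symm.trans (by simp)⟩
  haveI := etale_of_smooth_quasiFinite A (Localization.Away g)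
  exact (Algebra.basicOpen_subset_etaleLocus_iff (R := A) (f := g)).mpr inferInstance
    (show (⟨q, ‹_›⟩ : PrimeSpectrum B) ∈ PrimeSpectrum.basicOpen g from hgq)

end Groth.Agent.SmoothQFLib
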